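import Mathlib

/-!
The searches for the degrees and the values at an involution of a group of order 443520 with
self-centralizing Sylow subgroups of orders 5, 7 and 11.
-/

set_option autoImplicit false

namespace Cfsg.Agent.H69.MTwentyTwo.CaseE

/-- The group order. -/
abbrev NN : ℕ := 443520

/-- Possible residues of a degree at the three primes. -/
def resOK (d : ℕ) : Bool :=
  (d % 11 == 0 || d % 11 == 1 || d % 11 == 10 || d % 11 == 5 || d % 11 == 6) &&
  (d % 7 == 0 || d % 7 == 1 || d % 7 == 6 || d % 7 == 3 || d % 7 == 4) &&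
  (d % 5 == 0 || d % 5 == 1 || d % 5 == 4)

/-- Degree candidates prime to 11 with their signs: nonexceptional and exceptional. -/
def fList : List ℤ := [-560, -384, -120, -21, -10, 45, 56, 144, 210]

def tList : List ℤ := [-336, -160, -105, -6, 60, 126, 280]

/-- Degree candidates divisible by 11. -/
def mList : List ℕ := [616, 440, 396, 385, 330, 231, 220, 176, 165, 154, 99, 66, 55, 11]

theorem cand_ok : ((List.range 666).all fun d => Nat.ble d 1 || !(443520 % d == 0) || !resOK d ||
    (if d % 11 == 0 then mList.contains d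
     else if d % 11 == 1 then fList.contains (d : ℤ)
     else if d % 11 == 10 then fList.contains (-(d : ℤ))
     else if d % 11 == 5 then tList.contains (d : ℤ)
     else tList.contains (-(d : ℤ)))) = true := by
  decide +kernel

/-- Multisets of a given size, as lists. -/
def msets {α : Type*} : List α → ℕ → List (List α)
  | [], 0 => [[]]
  | [], _ + 1 => []
  | a :: as, n => (List.range (n + 1)).flatMap fun k =>
      (msets as (n - k)).map (List.replicate k a ++ ·)

theorem replicate_count_perm {α : Type*} [DecidableEq α] (a : α) (l : List α) :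
    (List.replicate (l.count a) a ++ l.filter fun x => !(x == a)).Perm l := by
  rw [← List.filter_beq]
  exact List.filter_append_perm _ l

theorem mem_msets {α : Type*} [DecidableEq α] : ∀ (as : List α) (n : ℕ) (l : List α), l.length = n →
    (∀ x ∈ l, x ∈ as) → ∃ l' ∈ msets as n, l'.Perm l := by
  intro as
  induction as with
  | nil =>
    intro n l hl h
    cases l with
    | nil => subst hl; exact ⟨[], by simp [msets], List.Perm.refl _⟩
    | cons x xs => exact absurd (h x (by simp)) (by simp)
  | cons a as ih =>
    intro n l hl h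
    have hp := replicate_count_perm a l
    have hlen := hp.length_eq
    rw [List.length_append, List.length_replicate, hl] at hlen
    obtain ⟨l', hl', hp'⟩ := ih (n - l.count a) (l.filter fun x => !(x == a)) (by omega) (fun x hx => by
      rw [List.mem_filter] at hx
      rcases List.mem_cons.1 (h x hx.1) with e | e
      · simp [e] at hx
      · exact e)
    refine ⟨List.replicate (l.count a) a ++ l', ?_, (hp'.append_left _).trans hp⟩
    rw [msets, List.mem_flatMap]
    exact ⟨l.count a, List.mem_range.2 (by omega), List.mem_map.2 ⟨l', hl', rfl⟩⟩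

/-- Signed degree at 7 of a nonexceptional character. -/
def sX7 (d : ℕ) : ℤ := if d % 7 == 1 then (d : ℤ) else -(d : ℤ)

/-- Signed degree at 7 of an exceptional character. -/
def sY7 (d : ℕ) : ℤ := if d % 7 == 3 then (d : ℤ) else -(d : ℤ)

def isX7 (d : ℕ) : Bool := d % 7 == 1 || d % 7 == 6

def isY7 (d : ℕ) : Bool := d % 7 == 3 || d % 7 == 4

/-- Necessary conditions on a part of the degree list. -/
def mono (L : List ℕ) : Bool :=
  Nat.ble ((L.map fun d => d * d).sum + 1) NN && Nat.ble (L.countP isX7) 2 &&
    Nat.ble (L.countP isY7) 2 && Nat.ble (L.countP fun d => !(d % 5 == 0)) 4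

/-- The conditions on the whole list. -/
def full (L : List ℕ) : Bool :=
  (L.map fun d => d * d).sum + 1 == NN && L.countP isX7 == 2 && L.countP isY7 == 2 &&
    L.countP (fun d => !(d % 5 == 0)) == 4 &&
    L.all fun y => !isY7 y || 1 + ((L.filter isX7).map sX7).sum == sY7 y

/-- The four degree lists. -/
def four : List (List ℕ) :=
  [[120, 56, 21, 21, 105, 105, 220, 220, 99, 385, 385],
   [120, 21, 210, 210, 280, 280, 99, 220, 220, 154, 231],
   [120, 21, 210, 210, 280, 280, 66, 66, 55, 154, 385],
   [21, 45, 45, 210, 280, 280, 99, 55, 154, 231, 385]]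

def degLeaf (L : List ℕ) : Bool := !full L || four.any fun K => K.isPerm L

/-- The search over the degrees divisible by 11. -/
def degGo : List ℕ → List ℕ → Bool
  | [], acc => degLeaf acc
  | d :: ds, acc => (List.range 6).all fun k =>
      !mono (List.replicate k d ++ acc) || degGo ds (List.replicate k d ++ acc)

def degStart : Bool := tList.all fun T => (msets fList 4).all fun l =>
  !(1 + l.sum == T) || !mono (l.map Int.natAbs ++ [T.natAbs, T.natAbs]) ||
    degGo mList (l.map Int.natAbs ++ [T.natAbs, T.natAbs])

theorem degStart_true : degStart = true := by decide +kernel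

theorem six_false : (mList.all fun d => !mono (List.replicate 6 d)) = true := by decide +kernel

/-- A block condition on values: residue `p`, index `e`. -/
def blk (p e : ℕ) (l : List (ℕ × ℤ)) : Bool :=
  let X := l.filter fun x => x.1 % p == 1 || x.1 % p == p - 1
  let Y := l.filter fun x => x.1 % p == e || x.1 % p == p - e
  let s := 1 + (X.map fun x => if x.1 % p == 1 then x.2 else -x.2).sum
  let q := (NN : ℤ) + (X.map fun x =>
    (if x.1 % p == 1 then x.2 * x.2 else -(x.2 * x.2)) * ((NN / x.1 : ℕ) : ℤ)).sum
  Y.all fun x => s == (if x.1 % p == e then x.2 else -x.2) &&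
    q == (if x.1 % p == e then x.2 * x.2 else -(x.2 * x.2)) * ((NN / x.1 : ℕ) : ℤ)

/-- The weighted sum at 5, times the group order. -/
def five5 (l : List (ℕ × ℤ)) : ℤ :=
  (NN : ℤ) + ((l.filter fun x => !(x.1 % 5 == 0)).map fun x =>
    (if x.1 % 5 == 1 then x.2 * x.2 else -(x.2 * x.2)) * ((NN / x.1 : ℕ) : ℤ)).sum

/-- The value options. -/
def opts (c d : ℕ) : List ℤ :=
  ((List.range 67).map fun k : ℕ => (k : ℤ) - 33).filter fun v =>
    Nat.ble (v.natAbs * v.natAbs) c && Nat.blt v.natAbs d && ((d : ℤ) - v) % 4 == 0 &&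
      ((NN / c : ℕ) : ℤ) * v % (d : ℤ) == 0

def sqs (l : List (ℕ × ℤ)) : ℤ := (l.map fun x => x.2 * x.2).sum

/-- The conclusion at a leaf: the inverting number is five and we are in the last list. -/
def colLeaf (good : Bool) (c : ℕ) (l : List (ℕ × ℤ)) : Bool :=
  !(blk 11 5 l && blk 7 3 l && 1 + (l.map fun x => (x.1 : ℤ) * x.2).sum == 0 && sqs l + 1 == (c : ℤ)) ||
    (!(five5 l == 0) && (!(5 * ((NN / c : ℕ) : ℤ) ^ 2 * five5 l == (NN : ℤ) ^ 2 * 25) ||
      (good && c == 384)))

def prune (c : ℕ) (rest : List (ℕ × ℕ)) (acc : List (ℕ × ℤ)) : Bool :=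
  decide (sqs acc + 1 ≤ (c : ℤ)) && (rest.any (fun g => !(g.1 % 11 == 0)) || blk 11 5 acc) &&
    (rest.any (fun g => !(g.1 % 7 == 0)) || blk 7 3 acc)

/-- The search for the values. -/
def colGo (good : Bool) (c : ℕ) : List (ℕ × ℕ) → List (ℕ × ℤ) → Bool
  | [], acc => colLeaf good c acc
  | g :: gs, acc => (opts c g.1).all fun v =>
      !prune c gs (acc ++ List.replicate g.2 (g.1, v)) ||
        colGo good c gs (acc ++ List.replicate g.2 (g.1, v))

/-- The four lists with the exceptional pairs joined. -/
def layouts : List (List (ℕ × ℕ) × Bool) :=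
  [([(120, 1), (56, 1), (21, 1), (21, 1), (105, 2), (220, 2), (99, 1), (385, 1), (385, 1)], false),
   ([(120, 1), (21, 1), (210, 1), (210, 1), (280, 2), (99, 1), (220, 2), (154, 1), (231, 1)], false),
   ([(120, 1), (21, 1), (210, 1), (210, 1), (280, 2), (66, 2), (55, 1), (154, 1), (385, 1)], false),
   ([(21, 1), (45, 2), (210, 1), (280, 2), (99, 1), (55, 1), (154, 1), (231, 1), (385, 1)], true)]

def cList : List ℕ :=
  [2, 4, 6, 8, 12, 16, 18, 24, 32, 36, 48, 64, 72, 96, 128, 144, 192, 288, 384, 576, 1152]

theorem col_true : (layouts.all fun L => cList.all fun c => colGo L.2 c L.1 []) = true := by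
  decide +kernel

end Cfsg.Agent.H69.MTwentyTwo.CaseE
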