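import Cfsg.Agent.H86.MTwentyTwo.Eleven
import Cfsg.Agent.H86.MTwentyTwo.BlockData
import Cfsg.Agent.H69.MTwentyTwo.CaseE.Search

/-!
The principal blocks at 11, 7 and 5 when the three Sylow subgroups are self-centralizing: degrees
and values are sorted by residues.
-/

set_option autoImplicit false
set_option linter.unusedSectionVars false

open scoped Classical

namespace Cfsg.Agent.H69.MTwentyTwo.CaseE

open CharBasic Subgroup BlockBasic H86 H86.MTwentyTwo

universe u

variable {G : Type u} [Group G] [Fintype G] {p : ℕ} [hp : Fact p.Prime] (D : SmallExc.PBlk G p)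

/-- Degree of a character. -/
noncomputable abbrev deg (χ : IrrCharacter G) : ℕ := charDegree (χ : G → ℂ)

theorem mod_eq_of_dvd_sub {d r : ℕ} (hr : r < p) (h : (p : ℤ) ∣ (d : ℤ) - r) : d % p = r :=
  Eq.trans (Nat.modEq_iff_dvd.2 h).symm (Nat.mod_eq_of_lt hr)

theorem mod_eq_of_dvd_add {d r : ℕ} (hr0 : 0 < r) (hr : r < p) (h : (p : ℤ) ∣ (d : ℤ) + r) :
    d % p = p - r := by
  refine mod_eq_of_dvd_sub (by omega) ?_
  rw [Nat.cast_sub hr.le, show (d : ℤ) - ((p : ℤ) - r) = (d : ℤ) + r - p by ring]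
  exact dvd_sub h dvd_rfl

theorem X_res {χ : IrrCharacter G} (hχ : χ ∈ D.X) :
    (D.εX χ = 1 ∧ deg χ % p = 1) ∨ (D.εX χ = -1 ∧ deg χ % p = p - 1) := by
  have h := X_degree_mod D hχ
  rcases D.sign χ hχ with e | e <;> rw [e] at h
  · exact Or.inl ⟨e, mod_eq_of_dvd_sub hp.out.one_lt (by simpa using h)⟩
  · refine Or.inr ⟨e, mod_eq_of_dvd_add Nat.one_pos hp.out.one_lt ?_⟩
    have := Int.dvd_neg.2 h
    rw [show -(-1 * (deg χ : ℤ) - 1) = (deg χ : ℤ) + ((1 : ℕ) : ℤ) by push_cast; ring] at this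
    exact this

theorem Y_res {θ : IrrCharacter G} (hθ : θ ∈ D.Y) {e : ℕ} (he : D.e = e) :
    (D.ε = 1 ∧ deg θ % p = e) ∨ (D.ε = -1 ∧ deg θ % p = p - e) := by
  subst he
  have h := Y_degree_mod D hθ
  have hle := D.e_le
  have hlt : D.e < p := by have := hp.out.two_le; omega
  rcases D.hε with e | e <;> rw [e] at h
  · exact Or.inl ⟨e, mod_eq_of_dvd_sub hlt (by simpa using h)⟩
  · refine Or.inr ⟨e, mod_eq_of_dvd_add D.e_pos hlt ?_⟩
    have := Int.dvd_neg.2 h
    rw [show -(-1 * (deg θ : ℤ) - (D.e : ℤ)) = (deg θ : ℤ) + (D.e : ℤ) by ring] at this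
    exact this

/-- A character lies in the block or has degree divisible by `p`. -/
theorem res_cases (hC : Cent D = (D.P : Subgroup G)) (χ : IrrCharacter G) :
    χ ∈ D.X ∨ χ ∈ D.Y ∨ deg χ % p = 0 := by
  by_cases h1 : χ ∈ D.X
  · exact Or.inl h1
  by_cases h2 : χ ∈ D.Y
  · exact Or.inr (Or.inl h2)
  exact Or.inr (Or.inr (Nat.mod_eq_zero_of_dvd (dvd_degree_outside D hC h1 h2)))

theorem mem_X_iff (hC : Cent D = (D.P : Subgroup G)) {e : ℕ} (he : D.e = e) (he1 : 1 < e)
    (he2 : e + 1 < p) (χ : IrrCharacter G) :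
    χ ∈ D.X ↔ deg χ % p = 1 ∨ deg χ % p = p - 1 := by
  constructor
  · intro h
    rcases X_res D h with ⟨-, r⟩ | ⟨-, r⟩ <;> simp [r]
  · intro h
    rcases res_cases D hC χ with h1 | h1 | h1
    · exact h1
    · rcases Y_res D h1 he with ⟨-, r⟩ | ⟨-, r⟩ <;> omega
    · omega

theorem mem_Y_iff (hC : Cent D = (D.P : Subgroup G)) {e : ℕ} (he : D.e = e) (he1 : 1 < e)
    (he2 : e + 1 < p) (χ : IrrCharacter G) :
    χ ∈ D.Y ↔ deg χ % p = e ∨ deg χ % p = p - e := by
  constructor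
  · intro h
    rcases Y_res D h he with ⟨-, r⟩ | ⟨-, r⟩ <;> simp [r]
  · intro h
    rcases res_cases D hC χ with h1 | h1 | h1
    · rcases X_res D h1 with ⟨-, r⟩ | ⟨-, r⟩ <;> omega
    · exact h1
    · omega

/-- At `p` with `e = p - 1` the block consists of the degrees prime to `p`. -/
theorem mem_block_iff (hC : Cent D = (D.P : Subgroup G)) (χ : IrrCharacter G) :
    χ ∈ D.X ∪ D.Y ↔ ¬ deg χ % p = 0 := by
  have hle := D.e_le
  have := hp.out.two_le
  have := D.e_pos
  constructor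
  · intro h
    rcases Finset.mem_union.1 h with h | h
    · rcases X_res D h with ⟨-, r⟩ | ⟨-, r⟩ <;> omega
    · rcases Y_res D h rfl with ⟨-, r⟩ | ⟨-, r⟩ <;> omega
  · intro h
    rcases res_cases D hC χ with h1 | h1 | h1
    · exact Finset.mem_union_left _ h1
    · exact Finset.mem_union_right _ h1
    · exact absurd h1 h

/-- The sign read off from the degree. -/
def sgn (p r d : ℕ) : ℤ := if d % p == r then 1 else -1

theorem εX_eq (hp2 : 2 < p) {χ : IrrCharacter G} (hχ : χ ∈ D.X) : D.εX χ = sgn p 1 (deg χ) := by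
  unfold sgn
  rcases X_res D hχ with ⟨e, r⟩ | ⟨e, r⟩ <;> rw [e, r]
  · simp
  · rw [if_neg (by simp only [beq_iff_eq]; omega)]

theorem ε_eq {θ : IrrCharacter G} (hθ : θ ∈ D.Y) {e : ℕ} (he : D.e = e) (hne : 2 * e ≠ p) :
    D.ε = sgn p e (deg θ) := by
  unfold sgn
  rcases Y_res D hθ he with ⟨h, r⟩ | ⟨h, r⟩ <;> rw [h, r]
  · simp
  · rw [if_neg (by simp only [beq_iff_eq]; omega)]

variable (G) in
/-- A subgroup of prime order carrying the whole `p`-part of the group order is the Sylow subgroup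
of a block. -/
theorem exists_blk {m : ℕ} (hN : Nat.card G = p * m) (hm : ¬ p ∣ m) {c n e : ℕ}
    (h : ∀ P : Subgroup G, Nat.card P = p →
      Nat.card (centralizer (P : Set G)) = c ∧ Nat.card (normalizer (P : Set G)) = n)
    (hc : c = p) (hn : n = p * e) :
    ∃ D : SmallExc.PBlk G p, Cent D = (D.P : Subgroup G) ∧ D.e = e := by
  have hf : (Nat.card G).factorization p = 1 := by
    rw [hN, Nat.factorization_mul hp.out.ne_zero (fun h0 => hm (by rw [h0]; exact dvd_zero p))]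
    simp [hp.out.factorization_self, Nat.factorization_eq_zero_of_not_dvd hm]
  let P : Sylow p G := default
  have hP : Nat.card P = p := by rw [Sylow.card_eq_multiplicity, hf, pow_one]
  obtain ⟨D, -⟩ := SmallExc.exists_pblk P hP
  obtain ⟨h1, h2⟩ := h (D.P : Subgroup G) D.card_P
  subst hc hn
  refine ⟨D, (eq_of_le_of_card_ge (le_cent D) ?_).symm, ?_⟩
  · exact (h1.trans_le D.card_P.ge)
  · have hle : Cent D ≤ normalizer ((D.P : Subgroup G) : Set G) := centralizer_le_normalizer _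
    have hk := relIndex_mul_relIndex (⊥ : Subgroup G) (Cent D)
      (normalizer ((D.P : Subgroup G) : Set G)) bot_le hle
    rw [relIndex_bot_left, relIndex_bot_left, h1, h2] at hk
    exact Nat.eq_of_mul_eq_mul_left hp.out.pos hk

end Cfsg.Agent.H69.MTwentyTwo.CaseE
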