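import Cfsg.Agent.H69.MTwentyTwo.CaseE.Values

/-!
Soundness of the search for the values at an involution, and the values' own conditions.
-/

set_option autoImplicit false
set_option linter.unusedSectionVars false

open scoped Classical

namespace Cfsg.Agent.H69.MTwentyTwo.CaseE

open CharBasic Subgroup BlockBasic H86 H86.MTwentyTwo

universe u

/-- The degrees of a layout. -/
def expand (gs : List (ℕ × ℕ)) : List ℕ := gs.flatMap fun g => List.replicate g.2 g.1

/-- Degrees of exceptional characters at 11 or 7. -/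
def sameD (d : ℕ) : Bool := d % 11 == 5 || d % 11 == 6 || d % 7 == 3 || d % 7 == 4

/-- The groups of a layout are single or exceptional pairs. -/
def okGroups (gs : List (ℕ × ℕ)) : Bool :=
  gs.all fun g => g.2 == 1 || (g.2 == 2 && sameD g.1)

theorem layouts_ok : (layouts.all fun L => okGroups L.1) = true := by decide +kernel

theorem four_layouts : (four.all fun Q => layouts.any fun L => (expand L.1).isPerm Q) = true := by
  decide +kernel

theorem good_degrees : (layouts.all fun L => !L.2 ||
    (1 :: expand L.1).isPerm [1, 21, 45, 45, 55, 99, 154, 210, 231, 280, 280, 385]) = true := by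
  decide +kernel

/-- The soundness of the search. -/
theorem colGo_sound (good : Bool) (c : ℕ) (P : Multiset (ℕ × ℤ))
    (hopts : ∀ x ∈ P, x.2 ∈ opts c x.1)
    (hsame : ∀ x ∈ P, ∀ y ∈ P, x.1 = y.1 → sameD x.1 = true → x = y)
    (hsq : ∀ L : List (ℕ × ℤ), (L : Multiset (ℕ × ℤ)) ≤ P → sqs L + 1 ≤ (c : ℤ))
    (hblk : ∀ (L : List (ℕ × ℤ)) (R : Multiset (ℕ × ℤ)), (L : Multiset (ℕ × ℤ)) + R = P →
      ((∀ x ∈ R, x.1 % 11 = 0) → blk 11 5 L = true) ∧ ((∀ x ∈ R, x.1 % 7 = 0) → blk 7 3 L = true)) :
    ∀ (gs : List (ℕ × ℕ)), okGroups gs = true → ∀ (acc : List (ℕ × ℤ)) (R : Multiset (ℕ × ℤ)),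
      colGo good c gs acc = true → (acc : Multiset (ℕ × ℤ)) + R = P →
      R.map Prod.fst = (expand gs : Multiset ℕ) →
      ∃ L : List (ℕ × ℤ), (L : Multiset (ℕ × ℤ)) = P ∧ colLeaf good c L = true := by
  intro gs
  induction gs with
  | nil =>
    intro _ acc R h hsum hmap
    have : R = 0 := Multiset.map_eq_zero.1 hmap
    rw [this, add_zero] at hsum
    exact ⟨acc, hsum, h⟩
  | cons g gs ih =>
    intro hok acc R h hsum hmap
    rw [okGroups, List.all_cons, Bool.and_eq_true] at hok
    obtain ⟨hg, hok'⟩ := hok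
    obtain ⟨d, m⟩ := g
    simp only [Bool.or_eq_true, Bool.and_eq_true, beq_iff_eq] at hg
    rw [expand, List.flatMap_cons, ← expand, ← Multiset.coe_add, Multiset.coe_replicate] at hmap
    have hsub : ∀ y ∈ R, y ∈ P := fun y hy => hsum ▸ Multiset.mem_add.2 (Or.inr hy)
    -- the pairs of degree `d`
    have hcnt : m ≤ (R.filter fun y => d = y.1).card := by
      rw [← Multiset.count_map, hmap, Multiset.count_add, Multiset.count_replicate_self]
      omega
    obtain ⟨x, hx, hle⟩ : ∃ x, x ∈ R ∧ x.1 = d ∧ Multiset.replicate m x ≤ R := by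
      obtain ⟨x, hx⟩ := Multiset.card_pos_iff_exists_mem.1
        (show 0 < (R.filter fun y => d = y.1).card by omega)
      obtain ⟨hxR, hxd⟩ := Multiset.mem_filter.1 hx
      refine ⟨x, hxR, hxd.symm, ?_⟩
      rcases hg with rfl | ⟨rfl, hs⟩
      · rw [Multiset.replicate_one, Multiset.singleton_le]
        exact hxR
      · have hrep : R.filter (fun y => d = y.1) =
            Multiset.replicate (R.filter fun y => d = y.1).card x :=
          Multiset.eq_replicate_card.2 fun y hy => by
            obtain ⟨hyR, hyd⟩ := Multiset.mem_filter.1 hy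
            exact (hsame x (hsub x hxR) y (hsub y hyR) (hxd.symm.trans hyd) (hxd ▸ hs)).symm
        refine le_trans ?_ (hrep ▸ Multiset.filter_le _ R)
        exact Multiset.replicate_mono x hcnt
    obtain ⟨rfl, hle⟩ := hle
    obtain ⟨R', hR'⟩ := Multiset.le_iff_exists_add.1 hle
    have hacc : ((acc ++ List.replicate m x : List (ℕ × ℤ)) : Multiset (ℕ × ℤ)) + R' = P := by
      rw [← Multiset.coe_add, Multiset.coe_replicate, add_assoc, ← hR', hsum]
    rw [hR', Multiset.map_add, Multiset.map_replicate] at hmap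
    have hmap' := add_left_cancel hmap
    rw [colGo, List.all_eq_true] at h
    have h1 := h x.2 (hopts x (hsub x hx))
    rw [Prod.mk.eta] at h1
    have hprune : prune c gs (acc ++ List.replicate m x) = true := by
      have hmem : ∀ (q : ℕ), (gs.any fun g => !(g.1 % q == 0)) = false →
          ∀ y ∈ R', y.1 % q = 0 := fun q hq y hy => by
        have : y.1 ∈ (expand gs : Multiset ℕ) := hmap' ▸ Multiset.mem_map_of_mem _ hy
        rw [Multiset.mem_coe, expand, List.mem_flatMap] at this
        obtain ⟨g, hg', hy'⟩ := this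
        have h0 := List.any_eq_false.1 hq g hg'
        rw [List.eq_of_mem_replicate hy']
        simpa using h0
      obtain ⟨hb11, hb7⟩ := hblk _ _ hacc
      simp only [prune, Bool.and_eq_true, decide_eq_true_eq, Bool.or_eq_true]
      refine ⟨⟨hsq _ (hacc ▸ Multiset.le_add_right _ _), ?_⟩, ?_⟩
      · rcases Bool.eq_false_or_eq_true (gs.any fun g => !(g.1 % 11 == 0)) with e | e
        · exact Or.inl e
        · exact Or.inr (hb11 (hmem 11 e))
      · rcases Bool.eq_false_or_eq_true (gs.any fun g => !(g.1 % 7 == 0)) with e | e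
        · exact Or.inl e
        · exact Or.inr (hb7 (hmem 7 e))
    rw [hprune, Bool.not_true, Bool.false_or] at h1
    exact ih hok' _ R' h1 hacc hmap'

variable {G : Type u} [Group G] [Fintype G] [IsSimpleGroup G]

/-- A value at an involution is among the options. -/
theorem mem_opts (hG : IsM22 G) {z : G} (hz : orderOf z = 2) {v : IrrCharacter G → ℤ}
    (hv : ∀ χ : IrrCharacter G, (χ : G → ℂ) z = v χ) {c : ℕ}
    (hc : Nat.card (centralizer ({z} : Set G)) = c) (hc2 : c ≤ 1152) {χ : IrrCharacter G}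
    (hχ : χ ≠ trivialIrr) : v χ ∈ opts c (deg χ) := by
  obtain ⟨a, ha, h4, hlo, hhi⟩ := Compute.G22.invol_value (exists_ne_mul (not_comm_of_isM22 hG))
    (χ := χ) (fun h => hχ (Subtype.ext h)) rfl hz
  have hav : a = v χ := by rw [hv] at ha; exact_mod_cast ha.symm
  subst hav
  have hidx : NN / c = (centralizer ({z} : Set G)).index := by
    have := (centralizer ({z} : Set G)).card_mul_index
    rw [hc, hG.2] at this
    exact Nat.div_eq_of_eq_mul_right (hc ▸ Nat.card_pos) this.symm
  have hdvd := dvd_index_mul χ (hv χ)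
  have hsq : v χ ^ 2 ≤ (c : ℤ) := by
    have h := sum_sq_le_centralizer hv ({χ} : Finset (IrrCharacter G))
    rwa [Finset.sum_singleton, hc] at h
  have habs : (v χ).natAbs * (v χ).natAbs ≤ c := by
    have : (((v χ).natAbs * (v χ).natAbs : ℕ) : ℤ) ≤ (c : ℤ) := by
      rw [Nat.cast_mul, Int.natAbs_mul_self', ← sq]; exact hsq
    exact_mod_cast this
  have h34 : (v χ).natAbs < 34 := by
    by_contra hge
    have : 34 * 34 ≤ (v χ).natAbs * (v χ).natAbs := Nat.mul_le_mul (by omega) (by omega)
    omega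
  rw [opts, List.mem_filter]
  refine ⟨List.mem_map.2 ⟨(v χ + 33).toNat, List.mem_range.2 (by omega), by omega⟩, ?_⟩
  simp only [Bool.and_eq_true, Nat.ble_eq, Nat.blt, beq_iff_eq]
  refine ⟨⟨⟨habs, ?_⟩, Int.emod_eq_zero_of_dvd h4⟩, ?_⟩
  · unfold deg; omega
  · rw [hidx]; exact Int.emod_eq_zero_of_dvd hdvd

end Cfsg.Agent.H69.MTwentyTwo.CaseE
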