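import Cfsg.Agent.H69.MTwentyTwo.CaseE.Blocks

/-!
The degrees of a simple group of order 443520 with self-centralizing Sylow subgroups of orders 5, 7
and 11: one of four lists.
-/

set_option autoImplicit false
set_option linter.unusedSectionVars false

open scoped Classical

namespace Cfsg.Agent.H69.MTwentyTwo.CaseE

open CharBasic Subgroup BlockBasic H86 H86.MTwentyTwo

universe u

theorem degGo_sound (M : Multiset ℕ) (hmono : ∀ L : List ℕ, (L : Multiset ℕ) ≤ M → mono L = true)
    (hfull : ∀ L : List ℕ, (L : Multiset ℕ) = M → full L = true) :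
    ∀ (ds : List ℕ), ds ⊆ mList → ∀ (acc : List ℕ) (K : Multiset ℕ), degGo ds acc = true →
      (acc : Multiset ℕ) + K = M → (∀ d ∈ K, d ∈ ds) → ∃ Q ∈ four, (Q : Multiset ℕ) = M := by
  intro ds
  induction ds with
  | nil =>
    intro _ acc K h hsum hK
    have : K = 0 := Multiset.eq_zero_of_forall_notMem fun d hd => by simpa using hK d hd
    rw [this, add_zero] at hsum
    rw [degGo, degLeaf, hfull acc hsum, Bool.not_true, Bool.false_or, List.any_eq_true] at h
    obtain ⟨Q, hQ, hp⟩ := h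
    exact ⟨Q, hQ, by rw [← hsum]; exact Multiset.coe_eq_coe.2 (List.isPerm_iff.1 hp)⟩
  | cons d ds ih =>
    intro hsub acc K h hsum hK
    have hsplit : Multiset.replicate (K.count d) d + K.filter (fun x => ¬ x = d) = K := by
      conv_rhs => rw [← Multiset.filter_add_not (fun x => x = d) K, Multiset.filter_eq']
    have hacc : ((List.replicate (K.count d) d ++ acc : List ℕ) : Multiset ℕ) +
        K.filter (fun x => ¬ x = d) = M := by
      rw [← hsum, ← Multiset.coe_add, Multiset.coe_replicate, add_comm _ (acc : Multiset ℕ),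
        add_assoc, hsplit]
    have hk : K.count d < 6 := by
      by_contra hge
      have hle : ((List.replicate 6 d : List ℕ) : Multiset ℕ) ≤ M := by
        rw [Multiset.coe_replicate, ← Multiset.le_count_iff_replicate_le, ← hsum,
          Multiset.count_add]
        omega
      have h6 := List.all_eq_true.1 six_false d (hsub List.mem_cons_self)
      rw [hmono _ hle] at h6
      simp at h6
    rw [degGo, List.all_eq_true] at h
    have h1 := h _ (List.mem_range.2 hk)
    rw [hmono _ (hacc ▸ Multiset.le_add_right _ _), Bool.not_true, Bool.false_or] at h1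
    refine ih (fun x hx => hsub (List.mem_cons_of_mem _ hx)) _ _ h1 hacc fun x hx => ?_
    obtain ⟨hx1, hx2⟩ := Multiset.mem_filter.1 hx
    exact (List.mem_cons.1 (hK x hx1)).resolve_left hx2

variable {G : Type u} [Group G] [Fintype G]

/-- The nontrivial characters. -/
noncomputable abbrev nonTriv (G : Type u) [Group G] [Fintype G] : Finset (IrrCharacter G) :=
  Finset.univ.erase trivialIrr

/-- Their degrees. -/
noncomputable def degsM (G : Type u) [Group G] [Fintype G] : Multiset ℕ :=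
  (nonTriv G).val.map deg

theorem sum_sq_degsM (hN : Nat.card G = NN) :
    ((degsM G).map fun d => d * d).sum + 1 = NN := by
  have h := sum_sq_degree (G := G)
  simp only [apply_one_eq_charDegree] at h
  have h' : ∑ χ : IrrCharacter G, deg χ * deg χ = NN := by
    rw [← hN]
    simp only [← sq]
    exact_mod_cast h
  have htriv : deg (trivialIrr : IrrCharacter G) = 1 := by
    have := apply_one_eq_charDegree (trivialIrr : IrrCharacter G)
    exact_mod_cast (this.symm.trans rfl : (deg (trivialIrr : IrrCharacter G) : ℂ) = 1)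
  rw [← Finset.add_sum_erase _ _ (Finset.mem_univ trivialIrr), htriv, mul_one, add_comm] at h'
  rw [degsM, Multiset.map_map]
  exact h'

theorem deg_bounds [IsSimpleGroup G] (hG : IsM22 G) {χ : IrrCharacter G} (hχ : χ ≠ trivialIrr) :
    2 ≤ deg χ ∧ deg χ ∣ NN ∧ deg χ < 666 := by
  refine ⟨two_le_degree (not_comm_of_isM22 hG) hχ,
    (H83.charDegree_dvd_card χ.2).trans hG.2.dvd, ?_⟩
  have h : deg χ * deg χ ≤ ((degsM G).map fun d => d * d).sum := by
    rw [degsM, Multiset.map_map]
    have hmem : χ ∈ (nonTriv G).val := Finset.mem_erase.2 ⟨hχ, Finset.mem_univ _⟩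
    exact Multiset.le_sum_of_mem
      (Multiset.mem_map_of_mem ((fun d => d * d) ∘ deg) hmem)
  have h2 := sum_sq_degsM (G := G) hG.2
  unfold NN at h2
  by_contra hge
  have : 666 * 666 ≤ deg χ * deg χ := Nat.mul_le_mul (by omega) (by omega)
  omega

theorem countP_degsM (q : ℕ → Bool) (S : Finset (IrrCharacter G))
    (h : ∀ χ, χ ∈ S ↔ χ ≠ trivialIrr ∧ q (deg χ) = true) :
    (degsM G).countP (fun d => q d = true) = S.card := by
  rw [degsM, Multiset.countP_map]
  show ((nonTriv G).filter fun χ => q (deg χ) = true).card = S.card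
  congr 1
  ext χ
  simp [h χ]

variable {p : ℕ} [hp : Fact p.Prime] (D : SmallExc.PBlk G p)

theorem card_erase_X {e : ℕ} (he : D.e = e) : (D.X.erase trivialIrr).card = e - 1 := by
  rw [Finset.card_erase_of_mem D.trivX, D.cardX, ← he]

theorem triv_notMem_Y : (trivialIrr : IrrCharacter G) ∉ D.Y :=
  Finset.disjoint_left.1 D.disj D.trivX

variable [IsSimpleGroup G]

theorem degs_isX7 [Fact (Nat.Prime 7)] (D : SmallExc.PBlk G 7)
    (hC : Cent D = (D.P : Subgroup G)) (he : D.e = 3) :
    (degsM G).countP (fun d => isX7 d = true) = 2 ∧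
    (degsM G).countP (fun d => isY7 d = true) = 2 := by
  constructor
  · rw [countP_degsM _ (D.X.erase trivialIrr) fun χ => by
      rw [Finset.mem_erase, mem_X_iff D hC he (by norm_num) (by norm_num)]; simp [isX7],
      card_erase_X D he]
  · rw [countP_degsM _ D.Y fun χ => ?_, D.cardY]
    · show (7 - 1) / D.e = 2
      rw [he]
    rw [mem_Y_iff D hC he (by norm_num) (by norm_num)]
    simp only [isY7, Bool.or_eq_true, beq_iff_eq, iff_and_self]
    rintro h rfl
    have h1 := SmallExc.PBlk.charDegree_triv D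
    rw [deg, h1] at h
    omega

theorem degs_five [Fact (Nat.Prime 5)] (D : SmallExc.PBlk G 5)
    (hC : Cent D = (D.P : Subgroup G)) (he : D.e = 4) :
    (degsM G).countP (fun d => (!(d % 5 == 0)) = true) = 4 := by
  rw [countP_degsM _ ((D.X.erase trivialIrr) ∪ D.Y) fun χ => ?_,
    Finset.card_union_of_disjoint (D.disj.mono_left (Finset.erase_subset _ _)), card_erase_X D he,
    D.cardY]
  · show 4 - 1 + (5 - 1) / D.e = 4
    rw [he]
  have hb := mem_block_iff D hC χ
  rw [Finset.mem_union] at hb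
  rw [Finset.mem_union, Finset.mem_erase, Bool.not_eq_true', beq_eq_false_iff_ne, ne_eq, ne_eq, ← hb]
  constructor
  · rintro (⟨h1, h2⟩ | h)
    · exact ⟨h1, Or.inl h2⟩
    · exact ⟨fun e => triv_notMem_Y D (e ▸ h), Or.inr h⟩
  · rintro ⟨h1, h2 | h2⟩
    · exact Or.inl ⟨h1, h2⟩
    · exact Or.inr h2

/-- The exceptional degree at 7 is one plus the signed nonexceptional degrees. -/
theorem degs_rel7 [Fact (Nat.Prime 7)] (D : SmallExc.PBlk G 7)
    (hC : Cent D = (D.P : Subgroup G)) (he : D.e = 3) :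
    ∀ y ∈ degsM G, isY7 y = true →
      1 + (((degsM G).filter fun d => isX7 d = true).map sX7).sum = sY7 y := by
  intro y hy hy7
  obtain ⟨θ, -, rfl⟩ := Multiset.mem_map.1 hy
  have hθ : θ ∈ D.Y := (mem_Y_iff D hC he (by norm_num) (by norm_num) θ).2
    (by simpa [isY7] using hy7)
  have hX : ((nonTriv G).filter fun χ => isX7 (deg χ) = true) = D.X.erase trivialIrr := by
    ext χ
    rw [Finset.mem_filter, Finset.mem_erase, Finset.mem_erase,
      mem_X_iff D hC he (by norm_num) (by norm_num)]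
    simp [isX7]
  rw [degsM, Multiset.filter_map, Multiset.map_map]
  show 1 + ∑ χ ∈ (nonTriv G).filter (fun χ => isX7 (deg χ) = true), sX7 (deg χ) = sY7 (deg θ)
  rw [hX]
  have h := sum_signedX D hθ
  rw [signedX, Finset.sum_map_toList, ε_eq D hθ he (by norm_num)] at h
  have hs : ∀ (r d : ℕ), sgn 7 r d * (d : ℤ) = if d % 7 == r then (d : ℤ) else -(d : ℤ) := by
    intro r d; unfold sgn; split_ifs <;> simp
  rw [show sY7 (deg θ) = sgn 7 3 (deg θ) * (deg θ : ℤ) from (hs 3 (deg θ)).symm, ← h]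
  congr 1
  refine Finset.sum_congr rfl fun χ hχ => ?_
  rw [εX_eq D (by norm_num) (Finset.mem_of_mem_erase hχ)]
  exact (hs 1 (deg χ)).symm

theorem countP_coe (q : ℕ → Bool) (L : List ℕ) :
    (L : Multiset ℕ).countP (fun d => q d = true) = L.countP q := by
  rw [Multiset.coe_countP]
  simp only [Bool.decide_eq_true]

theorem resOK_of {d : ℕ}
    (h1 : d % 11 = 0 ∨ d % 11 = 1 ∨ d % 11 = 10 ∨ d % 11 = 5 ∨ d % 11 = 6)
    (h2 : d % 7 = 0 ∨ d % 7 = 1 ∨ d % 7 = 6 ∨ d % 7 = 3 ∨ d % 7 = 4)
    (h3 : d % 5 = 0 ∨ d % 5 = 1 ∨ d % 5 = 4) : resOK d = true := by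
  unfold resOK
  rcases h1 with a | a | a | a | a <;> rcases h2 with b | b | b | b | b <;>
    rcases h3 with c | c | c <;> simp [a, b, c]

theorem cand_mem {d : ℕ} (h2 : 2 ≤ d) (hdvd : d ∣ NN) (h666 : d < 666) (hres : resOK d = true) :
    (d % 11 = 0 → d ∈ mList) ∧
      (d % 11 = 1 → (d : ℤ) ∈ fList) ∧ (d % 11 = 10 → -(d : ℤ) ∈ fList) ∧
      (d % 11 = 5 → (d : ℤ) ∈ tList) ∧ (d % 11 = 6 → -(d : ℤ) ∈ tList) := by
  have h := List.all_eq_true.1 cand_ok d (List.mem_range.2 h666)
  have hb1 : Nat.ble d 1 = false := by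
    rw [Bool.eq_false_iff, ne_eq, Nat.ble_eq]; omega
  have hb2 : (443520 % d == 0) = true := by
    rw [beq_iff_eq]; exact Nat.mod_eq_zero_of_dvd hdvd
  simp only [hb1, hb2, hres, Bool.not_true, Bool.false_or, beq_iff_eq] at h
  refine ⟨fun r => ?_, fun r => ?_, fun r => ?_, fun r => ?_, fun r => ?_⟩
  · rw [if_pos r] at h
    exact List.contains_iff_mem.1 h
  · rw [if_neg (by omega), if_pos r] at h
    exact List.contains_iff_mem.1 h
  · rw [if_neg (by omega), if_neg (by omega), if_pos r] at h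
    exact List.contains_iff_mem.1 h
  · rw [if_neg (by omega), if_neg (by omega), if_neg (by omega), if_pos r] at h
    exact List.contains_iff_mem.1 h
  · rw [if_neg (by omega), if_neg (by omega), if_neg (by omega), if_neg (by omega)] at h
    exact List.contains_iff_mem.1 h

/-- The degrees are given by one of the four lists. -/
theorem degs_four [Fact (Nat.Prime 11)] [Fact (Nat.Prime 7)] [Fact (Nat.Prime 5)] (hG : IsM22 G)
    (D11 : SmallExc.PBlk G 11) (hC11 : Cent D11 = (D11.P : Subgroup G)) (he11 : D11.e = 5)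
    (D7 : SmallExc.PBlk G 7) (hC7 : Cent D7 = (D7.P : Subgroup G)) (he7 : D7.e = 3)
    (D5 : SmallExc.PBlk G 5) (hC5 : Cent D5 = (D5.P : Subgroup G)) (he5 : D5.e = 4) :
    ∃ Q ∈ four, (Q : Multiset ℕ) = degsM G := by
  have hsq := sum_sq_degsM (G := G) hG.2
  obtain ⟨h7X, h7Y⟩ := degs_isX7 D7 hC7 he7
  have h5 := degs_five D5 hC5 he5
  -- the conditions
  have hmono : ∀ L : List ℕ, (L : Multiset ℕ) ≤ degsM G → mono L = true := by
    intro L hL
    obtain ⟨R, hR⟩ := Multiset.le_iff_exists_add.1 hL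
    rw [hR, Multiset.map_add, Multiset.sum_add, Multiset.map_coe, Multiset.sum_coe] at hsq
    rw [hR, Multiset.countP_add, countP_coe] at h7X h7Y h5
    simp only [mono, Bool.and_eq_true, Nat.ble_eq]
    omega
  have hfull : ∀ L : List ℕ, (L : Multiset ℕ) = degsM G → full L = true := by
    intro L hL
    have hr := degs_rel7 D7 hC7 he7
    rw [← hL] at hsq h7X h7Y h5 hr
    rw [countP_coe] at h7X h7Y h5
    simp only [Multiset.map_coe, Multiset.sum_coe, Multiset.filter_coe,
      Bool.decide_eq_true, Multiset.mem_coe] at hsq hr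
    simp only [full, Bool.and_eq_true, beq_iff_eq, List.all_eq_true, Bool.or_eq_true,
      Bool.not_eq_true']
    refine ⟨⟨⟨⟨hsq, h7X⟩, h7Y⟩, h5⟩, fun y hy => ?_⟩
    rcases hb : isY7 y
    · exact Or.inl rfl
    · exact Or.inr (hr y hy hb)
  -- the block at 11
  have hres : ∀ χ : IrrCharacter G, χ ≠ trivialIrr → resOK (deg χ) = true := by
    intro χ _
    have h1 : deg χ % 11 = 0 ∨ deg χ % 11 = 1 ∨ deg χ % 11 = 10 ∨ deg χ % 11 = 5 ∨
        deg χ % 11 = 6 := by
      rcases res_cases D11 hC11 χ with h | h | h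
      · rcases X_res D11 h with ⟨-, r⟩ | ⟨-, r⟩ <;> omega
      · rcases Y_res D11 h he11 with ⟨-, r⟩ | ⟨-, r⟩ <;> omega
      · omega
    have h2 : deg χ % 7 = 0 ∨ deg χ % 7 = 1 ∨ deg χ % 7 = 6 ∨ deg χ % 7 = 3 ∨
        deg χ % 7 = 4 := by
      rcases res_cases D7 hC7 χ with h | h | h
      · rcases X_res D7 h with ⟨-, r⟩ | ⟨-, r⟩ <;> omega
      · rcases Y_res D7 h he7 with ⟨-, r⟩ | ⟨-, r⟩ <;> omega
      · omega
    have h3 : deg χ % 5 = 0 ∨ deg χ % 5 = 1 ∨ deg χ % 5 = 4 := by
      rcases res_cases D5 hC5 χ with h | h | h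
      · rcases X_res D5 h with ⟨-, r⟩ | ⟨-, r⟩ <;> omega
      · rcases Y_res D5 h he5 with ⟨-, r⟩ | ⟨-, r⟩ <;> omega
      · omega
    exact resOK_of h1 h2 h3
  have hcand : ∀ χ : IrrCharacter G, χ ≠ trivialIrr →
      (deg χ % 11 = 0 → deg χ ∈ mList) ∧
      (deg χ % 11 = 1 → (deg χ : ℤ) ∈ fList) ∧ (deg χ % 11 = 10 → -(deg χ : ℤ) ∈ fList) ∧
      (deg χ % 11 = 5 → (deg χ : ℤ) ∈ tList) ∧ (deg χ % 11 = 6 → -(deg χ : ℤ) ∈ tList) := by
    intro χ hχ
    obtain ⟨hb1, hb2, hb3⟩ := deg_bounds hG hχ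
    exact cand_mem hb1 hb2 hb3 (hres χ hχ)
  obtain ⟨θ, hθ⟩ := D11.Y_nonempty
  set T : ℤ := D11.ε * (deg θ : ℤ) with hT
  have hTmem : T ∈ tList := by
    obtain ⟨-, -, -, h5', h6'⟩ := hcand θ fun e => triv_notMem_Y D11 (e ▸ hθ)
    rcases Y_res D11 hθ he11 with ⟨e, r⟩ | ⟨e, r⟩ <;> rw [hT, e]
    · simpa using h5' r
    · simpa using h6' r
  have hl0 : ∀ F ∈ signedX D11, F ∈ fList := by
    intro F hF
    obtain ⟨χ, hχ, hne, rfl⟩ := mem_signedX D11 hF
    obtain ⟨-, h1', h10', -, -⟩ := hcand χ hne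
    rcases X_res D11 hχ with ⟨e, r⟩ | ⟨e, r⟩ <;> rw [e]
    · simpa using h1' r
    · simpa using h10' r
  have hlen : (signedX D11).length = 4 := by
    have := length_signedX D11
    omega
  obtain ⟨l, hl, hperm⟩ := mem_msets fList 4 (signedX D11) hlen hl0
  have hsum : 1 + l.sum = T := by rw [hperm.sum_eq, sum_signedX D11 hθ]
  have hTn : T.natAbs = deg θ := natAbs_sign_mul D11.hε _
  set L0 := l.map Int.natAbs ++ [T.natAbs, T.natAbs] with hL0
  have hblock : (L0 : Multiset ℕ) = ((degsM G).filter fun d => ¬ d % 11 = 0) := by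
    have hfilter : ((nonTriv G).filter fun χ => ¬ deg χ % 11 = 0) =
        D11.X.erase trivialIrr ∪ D11.Y := by
      ext χ
      have hb := mem_block_iff D11 hC11 χ
      rw [Finset.mem_union] at hb
      simp only [Finset.mem_filter, Finset.mem_erase, Finset.mem_univ, and_true, ← hb,
        Finset.mem_union]
      constructor
      · rintro ⟨h1, h2 | h2⟩
        · exact Or.inl ⟨h1, h2⟩
        · exact Or.inr h2
      · rintro (⟨h1, h2⟩ | h)
        · exact ⟨h1, Or.inl h2⟩
        · exact ⟨fun e => triv_notMem_Y D11 (e ▸ h), Or.inr h⟩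
    rw [degsM, Multiset.filter_map]
    show _ = ((nonTriv G).filter fun χ => ¬ deg χ % 11 = 0).val.map deg
    rw [hfilter, ← Finset.disjUnion_eq_union _ _ (D11.disj.mono_left (Finset.erase_subset _ _)),
      Finset.disjUnion_val, Multiset.map_add, hL0, ← Multiset.coe_add]
    congr 1
    · rw [Multiset.coe_eq_coe.2 (hperm.map Int.natAbs), signedX, List.map_map, ← Multiset.map_coe,
        Finset.coe_toList]
      refine Multiset.map_congr rfl fun χ hχ => ?_
      exact natAbs_sign_mul (D11.sign χ (Finset.mem_of_mem_erase hχ)) _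
    · refine (Multiset.eq_replicate (a := T.natAbs) (n := 2)).2 ⟨?_, fun b hb => ?_⟩ |>.symm
      · rw [Multiset.card_map, Finset.card_val, D11.cardY]
        show (11 - 1) / D11.e = 2
        rw [he11]
      · obtain ⟨χ, hχ, rfl⟩ := Multiset.mem_map.1 hb
        rw [hTn]
        exact D11.degree_Y hχ hθ
  have hM : (L0 : Multiset ℕ) + (degsM G).filter (fun d => d % 11 = 0) = degsM G := by
    rw [hblock, add_comm, Multiset.filter_add_not]
  have h := List.all_eq_true.1 degStart_true T hTmem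
  have h' := List.all_eq_true.1 h l hl
  rw [← hL0, hmono L0 (hM ▸ Multiset.le_add_right _ _)] at h'
  simp only [hsum, beq_self_eq_true, Bool.not_true, Bool.false_or] at h'
  refine degGo_sound _ hmono hfull mList (List.Subset.refl _) L0 _ h' hM fun d hd => ?_
  obtain ⟨hd1, hd2⟩ := Multiset.mem_filter.1 hd
  obtain ⟨χ, hχ, rfl⟩ := Multiset.mem_map.1 hd1
  exact (hcand χ (Finset.ne_of_mem_erase hχ)).1 hd2

end Cfsg.Agent.H69.MTwentyTwo.CaseE
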