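import Cfsg.Agent.H69.MTwentyTwo.CaseE.Column
import Cfsg.Agent.H69.MTwentyTwo.Back.Main

/-!
A simple group of order 443520 with self-centralizing subgroups of orders 5 and 7, of indices 4 and
3 in their normalizers, is M22.
-/

set_option autoImplicit false
set_option linter.unusedSectionVars false

open scoped Classical

namespace Cfsg.Agent.H69.MTwentyTwo.CaseE

open CharBasic Subgroup BlockBasic H86 H86.MTwentyTwo

universe u

theorem cList_ok : ((List.range 1153).all fun c =>
    !(1152 % c == 0) || c % 2 == 1 || cList.contains c) = true := by decide +kernel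

/-- The shape of the subgroups of order 11. -/
theorem eleven_shape {G : Type u} [Group G] (hG : IsM22 G) (P : Subgroup G) (hP : Nat.card P = 11) :
    Nat.card (centralizer (P : Set G)) = 11 ∧ Nat.card (normalizer (P : Set G)) = 55 := by
  haveI := finite_of_isM22 hG
  haveI : Fact (Nat.Prime 11) := ⟨by norm_num⟩
  have hf : (Nat.card G).factorization 11 = 1 := by
    rw [hG.2, show (443520 : ℕ) = 11 * 40320 by norm_num,
      Nat.factorization_mul (by norm_num) (by norm_num)]
    simp [(Fact.out : Nat.Prime 11).factorization_self,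
      Nat.factorization_eq_zero_of_not_dvd (show ¬ 11 ∣ 40320 by norm_num)]
  obtain ⟨h1, h2⟩ := eleven hG (Sylow.ofCard P (by rw [hP, hf, pow_one]))
  change centralizer (P : Set G) = P at h1
  change (centralizer (P : Set G)).relIndex (normalizer (P : Set G)) = 5 at h2
  refine ⟨by rw [h1]; exact hP, ?_⟩
  have hk := relIndex_mul_relIndex (⊥ : Subgroup G) (centralizer (P : Set G))
    (normalizer (P : Set G)) bot_le (centralizer_le_normalizer _)
  rw [relIndex_bot_left, relIndex_bot_left, h2, h1, hP] at hk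
  exact hk.symm

variable {G : Type u} [Group G] [Fintype G]

/-- The centralizer of an involution has order dividing 1152. -/
theorem cent_dvd (hG : IsM22 G)
    (h5 : ∀ P : Subgroup G, Nat.card P = 5 → Nat.card (centralizer (P : Set G)) = 5)
    (h7 : ∀ P : Subgroup G, Nat.card P = 7 → Nat.card (centralizer (P : Set G)) = 7)
    (h11 : ∀ P : Subgroup G, Nat.card P = 11 → Nat.card (centralizer (P : Set G)) = 11)
    {z : G} (hz : orderOf z = 2) :
    Nat.card (centralizer ({z} : Set G)) ∈ cList := by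
  set c := Nat.card (centralizer ({z} : Set G)) with hc
  have hcop : ∀ q : ℕ, q.Prime → q ≠ 2 →
      (∀ P : Subgroup G, Nat.card P = q → Nat.card (centralizer (P : Set G)) = q) →
      Nat.Coprime c q := by
    intro q hq hq2 hP
    rw [Nat.coprime_comm, hq.coprime_iff_not_dvd]
    intro hdvd
    haveI := Fact.mk hq
    obtain ⟨y, hy⟩ := exists_prime_orderOf_dvd_card' (G := ↥(centralizer ({z} : Set G))) q hdvd
    have hy' : orderOf (y : G) = q := (Subgroup.orderOf_coe y).trans hy
    have hcy := hP (zpowers (y : G)) (by rw [Nat.card_zpowers, hy'])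
    have hmem : z ∈ centralizer ((zpowers (y : G) : Subgroup G) : Set G) := by
      rw [Back.centralizer_zpowers, Back.mem_cz_iff]
      exact (Back.mem_cz_iff.1 y.2).symm
    have h2 := orderOf_dvd_natCard _ hmem
    rw [hcy, hz] at h2
    exact hq2 ((Nat.prime_dvd_prime_iff_eq Nat.prime_two hq).1 h2).symm
  have h385 : Nat.Coprime c (5 * 7 * 11) :=
    ((hcop 5 (by norm_num) (by norm_num) h5).mul_right
      (hcop 7 (by norm_num) (by norm_num) h7)).mul_right (hcop 11 (by norm_num) (by norm_num) h11)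
  have hdvd : c ∣ 1152 := h385.dvd_of_dvd_mul_right (by
    have := (centralizer ({z} : Set G)).card_subgroup_dvd_card
    rwa [hG.2] at this)
  have h2 : 2 ∣ c := hz ▸ orderOf_dvd_natCard _ (Back.mem_cz_iff.2 (rfl : z * z = z * z))
  have h := List.all_eq_true.1 cList_ok c
    (List.mem_range.2 (by have := Nat.le_of_dvd (by norm_num) hdvd; omega))
  rw [Nat.mod_eq_zero_of_dvd hdvd, Nat.mod_eq_zero_of_dvd h2] at h
  simpa using h

set_option maxHeartbeats 400000 in
/-- One involution: it inverts a Sylow 5-subgroup, the degrees and the centralizer are known. -/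
theorem column [IsSimpleGroup G] [Fact (Nat.Prime 11)] [Fact (Nat.Prime 7)] [Fact (Nat.Prime 5)]
    (hG : IsM22 G)
    (D11 : SmallExc.PBlk G 11) (hC11 : Cent D11 = (D11.P : Subgroup G)) (he11 : D11.e = 5)
    (D7 : SmallExc.PBlk G 7) (hC7 : Cent D7 = (D7.P : Subgroup G)) (he7 : D7.e = 3)
    (D5 : SmallExc.PBlk G 5) (hC5 : Cent D5 = (D5.P : Subgroup G)) (he5 : D5.e = 4)
    {x : G} (hx : x ∈ (D5.P : Subgroup G)) (hx1 : x ≠ 1)
    {z : G} (hz : orderOf z = 2) (hc : Nat.card (centralizer ({z} : Set G)) ∈ cList) :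
    Nat.card (centralizer ({z} : Set G)) = 384 ∧ nInv z x = 5 ∧
      (Finset.univ.val.map fun χ : IrrCharacter G => charDegree (χ : G → ℂ)) =
        ({1, 21, 45, 45, 55, 99, 154, 210, 231, 280, 280, 385} : Multiset ℕ) := by
  obtain ⟨Q, hQ, hQM⟩ := degs_four hG D11 hC11 he11 D7 hC7 he7 D5 hC5 he5
  obtain ⟨⟨gs, good⟩, hLay, hperm⟩ := List.any_eq_true.1 (List.all_eq_true.1 four_layouts Q hQ)
  have hgs : (expand gs : Multiset ℕ) = degsM G :=
    (Multiset.coe_eq_coe.2 (List.isPerm_iff.1 hperm)).trans hQM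
  set c := Nat.card (centralizer ({z} : Set G)) with hcdef
  have hc1152 : c ≤ 1152 := by
    revert hc
    simp only [cList, List.mem_cons, List.not_mem_nil, or_false]
    rintro (h | h | h | h | h | h | h | h | h | h | h | h | h | h | h | h | h | h | h | h | h) <;>
      omega
  -- the values
  have hval : ∀ χ : IrrCharacter G, ∃ a : ℤ, (χ : G → ℂ) z = a := by
    intro χ
    by_cases hχ : χ = trivialIrr
    · exact ⟨1, by rw [hχ, Int.cast_one]; rfl⟩
    · obtain ⟨a, h1, -⟩ := Compute.G22.invol_value (exists_ne_mul (not_comm_of_isM22 hG)) (χ := χ)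
        (fun h => hχ (Subtype.ext h)) rfl hz
      exact ⟨a, h1⟩
  choose v hv using hval
  set P := pairsM v with hP
  have hsqP : (P.map fun x => x.2 * x.2).sum + 1 = (c : ℤ) := by
    have h := second_orthogonality_self (G := G) z
    simp only [hv, map_intCast] at h
    have h' : ∑ χ : IrrCharacter G, v χ * v χ = (c : ℤ) := by exact_mod_cast h
    rw [← Finset.add_sum_erase _ _ (Finset.mem_univ trivialIrr), val_triv hv, mul_one,
      add_comm] at h'
    rw [hP, pairsM, Multiset.map_map]
    exact h'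
  have hdvP : 1 + (P.map fun x => (x.1 : ℤ) * x.2).sum = 0 := by
    have h := sum_degree_mul_apply (G := G) z
    rw [if_neg (fun h1 => by rw [h1, orderOf_one] at hz; norm_num at hz)] at h
    simp only [hv, apply_one_eq_charDegree] at h
    have h' : ∑ χ : IrrCharacter G, (deg χ : ℤ) * v χ = 0 := by exact_mod_cast h
    rw [← Finset.add_sum_erase _ _ (Finset.mem_univ trivialIrr), val_triv hv,
      show deg (trivialIrr : IrrCharacter G) = 1 from SmallExc.PBlk.charDegree_triv D5] at h'
    rw [Nat.cast_one, one_mul] at h'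
    rw [hP, pairsM, Multiset.map_map]
    exact h'
  have hblk : ∀ (L : List (ℕ × ℤ)) (R : Multiset (ℕ × ℤ)),
      (L : Multiset (ℕ × ℤ)) + R = P →
      ((∀ x ∈ R, x.1 % 11 = 0) → blk 11 5 L = true) ∧
        ((∀ x ∈ R, x.1 % 7 = 0) → blk 7 3 L = true) := fun L R hR =>
    ⟨fun h => blk_true D11 hG.2 hC11 he11 (by norm_num) (by norm_num) (by norm_num)
        (by decide) hz hv ⟨R, hR, fun x hx => Nat.dvd_of_mod_eq_zero (h x hx)⟩,
     fun h => blk_true D7 hG.2 hC7 he7 (by norm_num) (by norm_num) (by norm_num)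
        (by decide) hz hv ⟨R, hR, fun x hx => Nat.dvd_of_mod_eq_zero (h x hx)⟩⟩
  have hsame : ∀ x ∈ P, ∀ y ∈ P, x.1 = y.1 → sameD x.1 = true → x = y := by
    intro a ha b hb hab hs
    obtain ⟨χ, -, rfl⟩ := Multiset.mem_map.1 ha
    obtain ⟨θ, -, rfl⟩ := Multiset.mem_map.1 hb
    simp only at hab hs
    refine Prod.ext hab (Int.cast_injective (α := ℂ) ?_)
    show ((v χ : ℤ) : ℂ) = (v θ : ℂ)
    rw [← hv, ← hv]
    simp only [sameD, Bool.or_eq_true, beq_iff_eq] at hs
    have hreg : ∀ q : ℕ, 2 < q → ¬ q ∣ orderOf z := fun q hq hd => by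
      rw [hz] at hd; have := Nat.le_of_dvd (by norm_num) hd; omega
    rcases hs with ((h | h) | h) | h
    · exact D11.agree χ ((mem_Y_iff D11 hC11 he11 (by norm_num) (by norm_num) χ).2 (Or.inl h)) θ
        ((mem_Y_iff D11 hC11 he11 (by norm_num) (by norm_num) θ).2 (Or.inl (hab ▸ h))) z
        (hreg 11 (by norm_num))
    · exact D11.agree χ ((mem_Y_iff D11 hC11 he11 (by norm_num) (by norm_num) χ).2 (Or.inr h)) θ
        ((mem_Y_iff D11 hC11 he11 (by norm_num) (by norm_num) θ).2 (Or.inr (hab ▸ h))) z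
        (hreg 11 (by norm_num))
    · exact D7.agree χ ((mem_Y_iff D7 hC7 he7 (by norm_num) (by norm_num) χ).2 (Or.inl h)) θ
        ((mem_Y_iff D7 hC7 he7 (by norm_num) (by norm_num) θ).2 (Or.inl (hab ▸ h))) z
        (hreg 7 (by norm_num))
    · exact D7.agree χ ((mem_Y_iff D7 hC7 he7 (by norm_num) (by norm_num) χ).2 (Or.inr h)) θ
        ((mem_Y_iff D7 hC7 he7 (by norm_num) (by norm_num) θ).2 (Or.inr (hab ▸ h))) z
        (hreg 7 (by norm_num))
  have hopts : ∀ a ∈ P, a.2 ∈ opts c a.1 := by
    intro a ha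
    obtain ⟨χ, hχ, rfl⟩ := Multiset.mem_map.1 ha
    exact mem_opts hG hz hv hcdef.symm hc1152 (Finset.ne_of_mem_erase hχ)
  have hsqL : ∀ L : List (ℕ × ℤ), (L : Multiset (ℕ × ℤ)) ≤ P → sqs L + 1 ≤ (c : ℤ) := by
    intro L hL
    obtain ⟨R, hR⟩ := Multiset.le_iff_exists_add.1 hL
    rw [hR, Multiset.map_add, Multiset.sum_add, Multiset.map_coe, Multiset.sum_coe] at hsqP
    have h0 : 0 ≤ (R.map fun x => x.2 * x.2).sum := Multiset.sum_nonneg fun a ha => by
      obtain ⟨x, -, rfl⟩ := Multiset.mem_map.1 ha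
      exact mul_self_nonneg _
    rw [sqs]
    linarith
  -- the search
  have hgo := List.all_eq_true.1 (List.all_eq_true.1 col_true (gs, good) hLay) c hc
  obtain ⟨L, hL, hleaf⟩ := colGo_sound good c P hopts hsame hsqL hblk gs
    (List.all_eq_true.1 layouts_ok (gs, good) hLay) [] P hgo (by simp)
    (by rw [hgs, hP, pairsM, Multiset.map_map]; rfl)
  obtain ⟨hb11, hb7⟩ := hblk L 0 (by rw [add_zero, hL])
  rw [← hL, Multiset.map_coe, Multiset.sum_coe] at hdvP hsqP
  rw [colLeaf, hb11 (fun x hx => absurd hx (Multiset.notMem_zero x)),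
    hb7 (fun x hx => absurd hx (Multiset.notMem_zero x))] at hleaf
  have hsqs : sqs L + 1 = (c : ℤ) := hsqP
  simp only [hdvP, hsqs, beq_self_eq_true, Bool.and_true, Bool.not_true, Bool.false_or,
    Bool.and_eq_true, Bool.or_eq_true, Bool.not_eq_true', beq_eq_false_iff_ne, beq_iff_eq] at hleaf
  obtain ⟨hne, hgood⟩ := hleaf
  -- the square rule at five
  obtain ⟨θ, hθ⟩ := D5.Y_nonempty
  have hcov : Covers v 5 L := ⟨0, by rw [add_zero]; exact hL, fun x hx => absurd hx (Multiset.notMem_zero x)⟩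
  have h5 := five5_eq D5 hG.2 hC5 he5 hv hθ hcov
  have hrule := square_rule hx hx1 (by norm_num) hz (fun χ _ => hv χ) hθ
  rw [coSize_one D5 hC5, hG.2, mul_one] at hrule
  have hidx : NN / c = (centralizer ({z} : Set G)).index := by
    have := (centralizer ({z} : Set G)).card_mul_index
    rw [← hcdef, hG.2] at this
    exact Nat.div_eq_of_eq_mul_right Nat.card_pos this.symm
  rcases nInv_cases hC5 hx hx1 (by norm_num) hz with hn | hn
  · exfalso
    rw [hn, Nat.cast_zero, zero_pow (by norm_num), mul_zero] at hrule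
    have hsum : sqSum D5 v θ = 0 := (mul_eq_zero.1 hrule).resolve_left
      (Nat.cast_ne_zero.2 (mul_ne_zero (by norm_num) (pow_ne_zero _ index_ne_zero_of_finite)))
    rw [hsum, mul_zero] at h5
    exact hne (by exact_mod_cast h5)
  · rw [hn] at hrule
    have hkey : (5 : ℤ) * ((NN / c : ℕ) : ℤ) ^ 2 * five5 L = (NN : ℤ) ^ 2 * 25 := by
      have : (((5 : ℤ) * ((NN / c : ℕ) : ℤ) ^ 2 * five5 L : ℤ) : ℚ) =
          (((NN : ℤ) ^ 2 * 25 : ℤ) : ℚ) := by
        rw [hidx]
        push_cast at hrule ⊢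
        rw [h5]
        linear_combination (NN : ℚ) * hrule
      exact_mod_cast this
    obtain ⟨hgood', hc384⟩ := hgood.resolve_left (fun h => h hkey)
    refine ⟨hc384, hn, ?_⟩
    have hd := List.all_eq_true.1 good_degrees (gs, good) hLay
    simp only [hgood', Bool.not_true, Bool.false_or] at hd
    have hperm' := Multiset.coe_eq_coe.2 (List.isPerm_iff.1 hd)
    refine Eq.trans ?_ hperm'
    rw [← Multiset.cons_coe, hgs, degsM, ← Finset.insert_erase (Finset.mem_univ trivialIrr),
      Finset.insert_val, Multiset.ndinsert_of_notMem (Finset.notMem_erase _ _), Multiset.map_cons,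
      SmallExc.PBlk.charDegree_triv D5]

/-- Case E. -/
theorem caseE_fin (hG : IsM22 G)
    (five : ∀ P : Subgroup G, Nat.card P = 5 →
      Nat.card (centralizer (P : Set G)) = 5 ∧ Nat.card (normalizer (P : Set G)) = 20)
    (seven : ∀ P : Subgroup G, Nat.card P = 7 →
      Nat.card (centralizer (P : Set G)) = 7 ∧ Nat.card (normalizer (P : Set G)) = 21) :
    Spor.IsoM22 G := by
  haveI := hG.1
  haveI h11 : Fact (Nat.Prime 11) := ⟨by norm_num⟩
  haveI h7 : Fact (Nat.Prime 7) := ⟨by norm_num⟩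
  haveI h5 : Fact (Nat.Prime 5) := ⟨by norm_num⟩
  have eleven' := eleven_shape hG
  obtain ⟨D11, hC11, he11⟩ := exists_blk G (p := 11) (m := 40320) (e := 5) (by rw [hG.2])
    (by norm_num) eleven' rfl (by norm_num)
  obtain ⟨D7, hC7, he7⟩ := exists_blk G (p := 7) (m := 63360) (e := 3) (by rw [hG.2])
    (by norm_num) seven rfl (by norm_num)
  obtain ⟨D5, hC5, he5⟩ := exists_blk G (p := 5) (m := 88704) (e := 4) (by rw [hG.2])
    (by norm_num) five rfl (by norm_num)
  obtain ⟨x, hx, hx1⟩ := D5.exists_ne_one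
  have hcol := fun (z : G) (hz : orderOf z = 2) =>
    column hG D11 hC11 he11 D7 hC7 he7 D5 hC5 he5 hx hx1 hz
      (cent_dvd hG (fun P h => (five P h).1) (fun P h => (seven P h).1)
        (fun P h => (eleven' P h).1) hz)
  obtain ⟨z₀, hz₀, -, hconj⟩ := exists_inverting hC5 hx hx1 (by norm_num) (by rw [he5]; decide)
  have hinv : ∀ a b : G, orderOf a = 2 → orderOf b = 2 → IsConj a b := by
    intro a b ha hb
    have h1 := hconj a ha (by rw [(hcol a ha).2.1]; norm_num)
    have h2 := hconj b hb (by rw [(hcol b hb).2.1]; norm_num)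
    exact h1.symm.trans h2
  exact isoM22_of_degrees hG (hcol z₀ hz₀).2.2 hinv (fun z hz => (hcol z hz).1) five seven eleven'

omit [Fintype G] in
/-- Case E for an arbitrary group of that order. -/
theorem caseE (hG : IsM22 G)
    (five : ∀ P : Subgroup G, Nat.card P = 5 →
      Nat.card (centralizer (P : Set G)) = 5 ∧ Nat.card (normalizer (P : Set G)) = 20)
    (seven : ∀ P : Subgroup G, Nat.card P = 7 →
      Nat.card (centralizer (P : Set G)) = 7 ∧ Nat.card (normalizer (P : Set G)) = 21) :
    Spor.IsoM22 G := by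
  haveI := finite_of_isM22 hG
  letI := Fintype.ofFinite G
  exact caseE_fin hG five seven

end Cfsg.Agent.H69.MTwentyTwo.CaseE
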