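import Cfsg.Agent.H69.MTwentyTwo.CaseE.Degrees

/-!
The pairs (degree, value at an involution) and the conditions the three blocks put on them.
-/

set_option autoImplicit false
set_option linter.unusedSectionVars false

open scoped Classical

namespace Cfsg.Agent.H69.MTwentyTwo.CaseE

open CharBasic Subgroup BlockBasic H86 H86.MTwentyTwo

universe u

variable {G : Type u} [Group G] [Fintype G] {p : ℕ} [hp : Fact p.Prime] (D : SmallExc.PBlk G p)
  (v : IrrCharacter G → ℤ)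

/-- Degree and value. -/
noncomputable abbrev pair (χ : IrrCharacter G) : ℕ × ℤ := (deg χ, v χ)

/-- The pairs of the nontrivial characters. -/
noncomputable def pairsM : Multiset (ℕ × ℤ) := (nonTriv G).val.map (pair v)

/-- `L` holds every pair but some, whose degrees are multiples of `p`. -/
def Covers (p : ℕ) (L : List (ℕ × ℤ)) : Prop :=
  ∃ R : Multiset (ℕ × ℤ), (L : Multiset (ℕ × ℤ)) + R = pairsM v ∧ ∀ x ∈ R, p ∣ x.1

theorem covers_sum {β : Type*} [AddCommMonoid β] {L : List (ℕ × ℤ)} (hL : Covers v p L)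
    (q : ℕ → Bool) (hq : ∀ d, p ∣ d → q d = false) (S : Finset (IrrCharacter G))
    (hS : ∀ χ, χ ∈ S ↔ χ ≠ trivialIrr ∧ q (deg χ) = true) (f : ℕ × ℤ → β) :
    ((L.filter fun x => q x.1).map f).sum = ∑ χ ∈ S, f (pair v χ) := by
  obtain ⟨R, hR, hR'⟩ := hL
  have h : (pairsM v).filter (fun x => q x.1 = true) =
      ((L : Multiset (ℕ × ℤ)).filter fun x => q x.1 = true) := by
    rw [← hR, Multiset.filter_add, (Multiset.filter_eq_nil (s := R)).2 (fun x hx => by
      simp [hq _ (hR' x hx)]), add_zero]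
  have hfin : (nonTriv G).filter (fun χ => q (deg χ) = true) = S := by
    ext χ; simp [hS χ]
  have h' : ((L.filter fun x => q x.1 : List (ℕ × ℤ)) : Multiset (ℕ × ℤ)) =
      S.val.map (pair v) := by
    rw [← hfin]
    show _ = ((nonTriv G).val.filter fun χ => q (deg χ) = true).map (pair v)
    have h2 := Multiset.filter_map (p := fun x : ℕ × ℤ => q x.1 = true) (pair v) (nonTriv G).val
    unfold pairsM at h
    rw [h2] at h
    rw [Multiset.filter_coe] at h
    refine Eq.trans ?_ h.symm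
    simp
  have h3 := congrArg (fun M => (Multiset.map f M).sum) h'
  simp only [Multiset.map_coe, Multiset.sum_coe, Multiset.map_map] at h3
  exact h3

theorem covers_mem {L : List (ℕ × ℤ)} (hL : Covers v p L) {x : ℕ × ℤ} (hx : x ∈ L) :
    ∃ χ, χ ≠ trivialIrr ∧ pair v χ = x := by
  obtain ⟨R, hR, -⟩ := hL
  have h : x ∈ pairsM v := hR ▸ Multiset.mem_add.2 (Or.inl hx)
  obtain ⟨χ, hχ, rfl⟩ := Multiset.mem_map.1 h
  exact ⟨χ, Finset.ne_of_mem_erase hχ, rfl⟩

theorem ite_sgn (p r d : ℕ) (a : ℤ) : (if d % p == r then a else -a) = sgn p r d * a := by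
  unfold sgn; split_ifs <;> simp

theorem coSize_one (hC : Cent D = (D.P : Subgroup G)) : coSize D = 1 := by
  have h := card_cent D
  rw [hC, show Nat.card (D.P : Subgroup G) = p from D.card_P] at h
  exact (Nat.eq_of_mul_eq_mul_left hp.out.pos (by rw [mul_one]; exact h)).symm

variable {v}

theorem val_triv {z : G} (hv : ∀ χ : IrrCharacter G, (χ : G → ℂ) z = v χ) : v trivialIrr = 1 := by
  have h' : ((v trivialIrr : ℤ) : ℂ) = ((1 : ℤ) : ℂ) := by rw [← hv, Int.cast_one]; rfl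
  exact Int.cast_injective h'

theorem mul_div_deg (hN : Nat.card G = NN) (χ : IrrCharacter G) (a : ℚ) :
    (NN : ℚ) * (a / (deg χ : ℚ)) = a * ((NN / deg χ : ℕ) : ℚ) := by
  have hd : deg χ ∣ NN := (H83.charDegree_dvd_card χ.2).trans hN.dvd
  have h0 : (deg χ : ℚ) ≠ 0 := Nat.cast_ne_zero.2 (charDegree_pos χ).ne'
  rw [Nat.cast_div hd h0]
  ring

/-- The group order times the weighted square sum. -/
theorem nn_mul_sqSum (hN : Nat.card G = NN) (hp2 : 2 < p) {e : ℕ} (he : D.e = e) (hne : 2 * e ≠ p)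
    {z : G} (hv : ∀ χ : IrrCharacter G, (χ : G → ℂ) z = v χ) {θ : IrrCharacter G} (hθ : θ ∈ D.Y) :
    (NN : ℚ) * sqSum D v θ = (((NN : ℤ) + ∑ χ ∈ D.X.erase trivialIrr,
      sgn p 1 (deg χ) * (v χ * v χ) * ((NN / deg χ : ℕ) : ℤ) -
        sgn p e (deg θ) * (v θ * v θ) * ((NN / deg θ : ℕ) : ℤ) : ℤ) : ℚ) := by
  rw [sqSum, ← Finset.add_sum_erase _ _ D.trivX, SmallExc.PBlk.εX_triv D, val_triv hv,
    SmallExc.PBlk.charDegree_triv D, mul_sub, mul_add, Finset.mul_sum, mul_div_deg hN θ,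
    ε_eq D hθ he hne]
  simp only [Int.cast_sub, Int.cast_add, Int.cast_sum, Int.cast_mul, Int.cast_natCast, sq]
  rw [Int.cast_one, Nat.cast_one, one_mul, one_mul, div_one, mul_one]
  congr 1
  congr 1
  refine Finset.sum_congr rfl fun χ hχ => ?_
  rw [mul_div_deg hN χ, εX_eq D hp2 (Finset.mem_of_mem_erase hχ)]

/-- The square rule at an involution which inverts nothing in the Sylow subgroup. -/
theorem sqSum_eq_zero (hC : Cent D = (D.P : Subgroup G)) (hp2 : p ≠ 2) (hodd : Odd D.e) {z : G}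
    (hz : orderOf z = 2) (hv : ∀ χ : IrrCharacter G, (χ : G → ℂ) z = v χ) {θ : IrrCharacter G}
    (hθ : θ ∈ D.Y) : sqSum D v θ = 0 := by
  obtain ⟨x, hx, hx1⟩ := D.exists_ne_one
  have h := square_rule hx hx1 hp2 hz (fun χ _ => hv χ) hθ
  rw [nInv_eq_zero_of_odd hx hx1 hp2 hodd hz, Nat.cast_zero, zero_pow (by norm_num), mul_zero,
    coSize_one D hC, mul_one] at h
  refine (mul_eq_zero.1 h).resolve_left (Nat.cast_ne_zero.2 ?_)
  exact mul_ne_zero hp.out.ne_zero (pow_ne_zero _ index_ne_zero_of_finite)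

/-- The two conditions of a block on the pairs. -/
theorem blk_true (hN : Nat.card G = NN) (hC : Cent D = (D.P : Subgroup G)) {e : ℕ} (he : D.e = e)
    (he1 : 1 < e) (he2 : e + 1 < p) (hne : 2 * e ≠ p) (hodd : Odd e) {z : G} (hz : orderOf z = 2)
    (hv : ∀ χ : IrrCharacter G, (χ : G → ℂ) z = v χ) {L : List (ℕ × ℤ)} (hL : Covers v p L) :
    blk p e L = true := by
  have hp2 : 2 < p := by omega
  have hzp : ¬ p ∣ orderOf z := by
    rw [hz]; intro h; have := Nat.le_of_dvd (by norm_num) h; omega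
  have hq : ∀ d, p ∣ d → (d % p == 1 || d % p == p - 1) = false := fun d hd => by
    simp only [Bool.or_eq_false_iff, beq_eq_false_iff_ne, Nat.mod_eq_zero_of_dvd hd]
    omega
  have hS : ∀ χ : IrrCharacter G, χ ∈ D.X.erase trivialIrr ↔
      χ ≠ trivialIrr ∧ (deg χ % p == 1 || deg χ % p == p - 1) = true := fun χ => by
    rw [Finset.mem_erase, mem_X_iff D hC he he1 he2]
    simp
  simp only [blk, List.all_eq_true, List.mem_filter, and_imp, Bool.and_eq_true, beq_iff_eq,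
    Bool.or_eq_true]
  intro x hx hxY
  obtain ⟨θ, -, rfl⟩ := covers_mem v hL hx
  have hθ : θ ∈ D.Y := (mem_Y_iff D hC he he1 he2 θ).2 hxY
  have h1 := covers_sum v hL (fun d => d % p == 1 || d % p == p - 1) hq (D.X.erase trivialIrr) hS
    (fun x : ℕ × ℤ => if x.1 % p == 1 then x.2 else -x.2)
  have h2 := covers_sum v hL (fun d => d % p == 1 || d % p == p - 1) hq (D.X.erase trivialIrr) hS
    (fun x : ℕ × ℤ =>
      (if x.1 % p == 1 then x.2 * x.2 else -(x.2 * x.2)) * ((NN / x.1 : ℕ) : ℤ))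
  simp only [beq_iff_eq] at h1 h2
  rw [h1, h2]
  simp only [← beq_iff_eq (a := _ % p), ite_sgn]
  refine ⟨?_, ?_⟩
  · have h := sign_eq D hzp (fun χ _ => hv χ) hθ
    rw [← Finset.add_sum_erase _ _ D.trivX, SmallExc.PBlk.εX_triv D, val_triv hv, mul_one,
      ε_eq D hθ he hne] at h
    rw [h]
    congr 1
    refine Finset.sum_congr rfl fun χ hχ => ?_
    rw [εX_eq D hp2 (Finset.mem_of_mem_erase hχ)]
  · have h := nn_mul_sqSum D hN hp2 he hne hv hθ
    rw [sqSum_eq_zero D hC (by omega) (he ▸ hodd) hz hv hθ, mul_zero] at h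
    have h' := (Int.cast_eq_zero.1 h.symm)
    exact sub_eq_zero.1 h'

/-- The weighted square sum at five. -/
theorem five5_eq [Fact (Nat.Prime 5)] (D : SmallExc.PBlk G 5) (hN : Nat.card G = NN)
    (hC : Cent D = (D.P : Subgroup G)) (he : D.e = 4) {z : G}
    (hv : ∀ χ : IrrCharacter G, (χ : G → ℂ) z = v χ) {θ : IrrCharacter G} (hθ : θ ∈ D.Y)
    {L : List (ℕ × ℤ)} (hL : Covers v 5 L) : (five5 L : ℚ) = (NN : ℚ) * sqSum D v θ := by
  have hY : D.Y = {θ} := by
    obtain ⟨a, ha⟩ := Finset.card_eq_one.1 (show D.Y.card = 1 by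
      rw [D.cardY]; show (5 - 1) / D.e = 1; rw [he])
    rw [ha] at hθ ⊢
    rw [Finset.mem_singleton.1 hθ]
  have hS : ∀ χ : IrrCharacter G, χ ∈ D.X.erase trivialIrr ∪ D.Y ↔
      χ ≠ trivialIrr ∧ (!(deg χ % 5 == 0)) = true := fun χ => by
    have hb := mem_block_iff D hC χ
    rw [Finset.mem_union] at hb
    rw [Finset.mem_union, Finset.mem_erase, Bool.not_eq_true', beq_eq_false_iff_ne, ne_eq, ne_eq,
      ← hb]
    constructor
    · rintro (⟨h1, h2⟩ | h)
      · exact ⟨h1, Or.inl h2⟩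
      · exact ⟨fun e => triv_notMem_Y D (e ▸ h), Or.inr h⟩
    · rintro ⟨h1, h2 | h2⟩
      · exact Or.inl ⟨h1, h2⟩
      · exact Or.inr h2
  have h1 := covers_sum v hL (fun d => !(d % 5 == 0))
    (fun d hd => by simp [Nat.mod_eq_zero_of_dvd hd]) (D.X.erase trivialIrr ∪ D.Y) hS
    (fun x : ℕ × ℤ =>
      (if x.1 % 5 == 1 then x.2 * x.2 else -(x.2 * x.2)) * ((NN / x.1 : ℕ) : ℤ))
  rw [nn_mul_sqSum D hN (by norm_num) he (by norm_num) hv hθ, five5]
  congr 1
  rw [h1, Finset.sum_union (D.disj.mono_left (Finset.erase_subset _ _)), hY, Finset.sum_singleton,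
    add_sub_assoc]
  simp only [ite_sgn]
  have hs : sgn 5 1 (deg θ) = - sgn 5 4 (deg θ) := by
    unfold sgn
    rcases Y_res D hθ he with ⟨-, r⟩ | ⟨-, r⟩ <;> rw [r] <;> simp
  rw [hs]
  ring

end Cfsg.Agent.H69.MTwentyTwo.CaseE
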